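import Cfsg.Agent.H557.Co3.CentGen
import Cfsg.Agent.H557.InvE8

/-!
# Generators of the centralisers of the involutions of `chevE8` (helper557, S1920)

* `GC hp i₀` : the subgroup of `D.group K` generated by the diagonal subgroup and the `x_r(a)`, `r` with even
  coordinate at the node `i₀`;
* `cent_le` : `C(t) ≤ GC` for the involution `t = th hp (sg K l n)` of a class with checked tables;
* `cent_D8`, `cent_E7A1` : the two classes of `chevE8`.
-/

set_option autoImplicit false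
set_option linter.unusedSectionVars false

namespace Cfsg.Agent.H557.Co3.CentE8

open CoxeterSystem Cfsg.Agent.ChevalleyStructure.CoxeterGeom Cfsg.Agent.Tits.Roots Cfsg.Agent.Tits.Core
  Cfsg.Agent.Nodes.Reps Cfsg.Agent.Nodes.BNOf
  Cfsg.Agent.H557.CardCent Cfsg.Agent.H557.WAct Cfsg.Agent.H557.CentChev
open Cfsg.Lie Cfsg.Agent.ChevalleyStructure Cfsg.Agent.ChevalleyStructure.Elts
  Cfsg.Agent.ChevalleyStructure.RootVec
  Cfsg.Agent.ChevalleyStructure.CoxeterGeomTypes Cfsg.Agent.Nodes.RGDChev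
  Cfsg.Agent.KFacts.RgdChevCoord Cfsg.Agent.OddHalf.NI.ModelChev Cfsg.Agent.H557.Toral
open Cfsg.Agent.ChevalleyStructure.WeylStep Cfsg.Agent.ChevalleyStructure.CoxeterWordCheck
  Cfsg.Agent.H557.SubTab Cfsg.Agent.H557.SumHom
  Cfsg.Agent.H557.SubLink Cfsg.Agent.H557.SignTorus Cfsg.Agent.H557.InvClass
  Cfsg.Agent.H557.ToralTypes Cfsg.Agent.H557.LinkE8 Cfsg.Agent.H557.OrbE8 Cfsg.Agent.H557.InvE8

universe u

section

variable {D : ChevalleyDatum} {l : ℕ} {M : CoxeterMatrix (Fin l)} (hp : IsType D l M)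

/-- the subgroup generated by the diagonal subgroup and the `x_r(a)`, `r` with even coordinate at `i₀` -/
def GC (K : Type u) [Field K] (i₀ : Fin l) : Subgroup ↥(D.group K) :=
  Subgroup.closure ({g | g ∈ TT D K} ∪
    {g | ∃ (r : ℕ) (a : K), r < D.nroots ∧ Even (vec D l r i₀) ∧ (g : GL D.Idx K) = xG hp.inList r a})

variable {W : Type*} [Group W] (cs : CoxeterSystem M W) {K : Type u} [Field K] [Finite K] (p : ℕ) [Fact p.Prime] [CharP K p]

include cs p in
theorem HC_le_GC {i₀ : Fin l} {t : ↥(D.group K)}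
    (hch : ∀ x, IsRoot cs hp.isCartan x → (ch hp x t = 1 ↔ Even (x i₀))) : HC hp t ≤ GC hp K i₀ := by
  refine (Subgroup.closure_le _).2 ?_
  rintro g (hg | ⟨r, hr, h1, hg⟩)
  · exact Subgroup.subset_closure (Or.inl hg)
  · have hx := isRoot_vec hp cs hr
    have C := (coords (K := K) hp cs p).coord _ hx
    obtain ⟨a, rfl⟩ := (C.mem g).1 hg
    exact Subgroup.subset_closure (Or.inr ⟨r, a, hr, (hch _ hx).1 h1, coe_xc hp hr a⟩)

variable {hp cs} {cm : List ℕ} {T : Tab l} {ds : List ℕ} {n O : ℕ} (C : ClassData hp cs cm T ds n O)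
  (hcm : OkC (cartanOf D l) cm)

include hcm p in
/-- **generators of the centraliser of an involution of the torus** -/
theorem cent_le [Finite W] (h2 : (2 : K) ≠ 0) (hth : ∀ t : Fin l → Kˣ, th hp t = 1 → t = 1)
    {rw : List (List ℤ)} (hrw : rows (cartanOf D l) = rw) (hok : okW T rw C.i₀ = true) {g : ↥(D.group K)}
    (hg : th hp (sg K l n) * g = g * th hp (sg K l n)) : g ∈ GC hp K C.i₀ := by
  have hch : ∀ x, IsRoot cs hp.isCartan x → (ch hp x ((thT hp (sg K l n) : TT D K) : ↥(D.group K)) = 1 ↔ Even (x C.i₀)) :=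
    fun x hx => ch_sg hp cs hcm hx h2 C.n0
  have hw : ∀ i : Fin l, cs.wordProd (T.w i) ∈ fixS cs (rgd (K := K) hp cs p).nsys (comm_mem_TT hp)
      (thT hp (sg K l n)) := by
    intro i
    show actHom cs (rgd (K := K) hp cs p).nsys (comm_mem_TT hp) (cs.wordProd (T.w i)) (thT hp (sg K l n)) =
      thT hp (sg K l n)
    rw [act_word hp cs hcm p, C.wd i]
  have hcard : Nat.card ↥(fixS cs (rgd (K := K) hp cs p).nsys (comm_mem_TT hp) (thT hp (sg K l n))) =
      pe 1 (poly C.Ls) := by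
    have h3 := card_orbit hp cs hcm p h2 hth C.n_lt C.nO C.okO C.okC C.lc
    rw [← C.cW] at h3
    exact Nat.eq_of_mul_eq_mul_right C.c0 h3
  refine HC_le_GC hp cs p hch (centralizer_le hp cs p (thT hp (sg K l n))
    ((fix_gen C.L p C.ok C.beta (thT hp (sg K l n)) hch hw C.Ls C.ch hcard).trans ?_) hg)
  refine Subgroup.closure_mono ?_
  rintro _ ⟨i, rfl⟩
  obtain ⟨ω, j, e, h5⟩ := okW_spec (hp := hp) (cs := cs) hrw hok i
  refine ⟨hw i, cs.wordProd ω, j, ?_, (hch _ ⟨_, j, rfl⟩).2 h5⟩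
  show cs.wordProd (T.w i) = _
  rw [e, wordProd_append, wordProd_cons, wordProd_reverse, mul_assoc]

end

/-! ### `chevE8` -/

section

variable {K : Type u} [Field K] [Finite K]

theorem W_TabD8 : okW TabD8.tab rw 0 = true := by decide +kernel

theorem W_TabE7A1 : okW TabE7A1.tab rw 7 = true := by decide +kernel

theorem exists_p (ho : Odd (Nat.card K)) : ∃ p : ℕ, ∃ _ : Fact p.Prime, CharP K p ∧ (2 : K) ≠ 0 := by
  have hfin : Fintype K := Fintype.ofFinite K
  rw [Nat.card_eq_fintype_card] at ho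
  obtain ⟨p, hpp, hpc, hp2⟩ := exists_char K ho
  have : Fact p.Prime := ⟨hpp⟩
  refine ⟨p, this, hpc, fun h => ?_⟩
  have h3 : p ∣ 2 := (CharP.cast_eq_zero_iff K p 2).1 (by exact_mod_cast h)
  have h4 := (Nat.prime_dvd_prime_iff_eq hpp Nat.prime_two).1 h3
  rw [h4] at hp2
  exact absurd hp2 (by decide)

/-- **the centraliser of the involution of type `D8`** -/
theorem cent_D8 (ho : Odd (Nat.card K)) {g : ↥(chevE8.group K)}
    (hg : th Nodes.KindE.isType8 (sg K 8 n_TabD8) * g = g * th Nodes.KindE.isType8 (sg K 8 n_TabD8)) :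
    g ∈ GC Nodes.KindE.isType8 K 0 := by
  obtain ⟨p, hp, hpc, h2⟩ := exists_p ho
  have hfin : Fintype K := Fintype.ofFinite K
  have hW : Finite (CoxeterMatrix.E₈).Group := Nat.finite_of_card_ne_zero (by rw [cardW]; norm_num)
  exact cent_le p D_TabD8 hcm h2 inj_E8 hrw W_TabD8 hg

/-- **the centraliser of the involution of type `E7 + A1`** -/
theorem cent_E7A1 (ho : Odd (Nat.card K)) {g : ↥(chevE8.group K)}
    (hg : th Nodes.KindE.isType8 (sg K 8 n_TabE7A1) * g = g * th Nodes.KindE.isType8 (sg K 8 n_TabE7A1)) :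
    g ∈ GC Nodes.KindE.isType8 K 7 := by
  obtain ⟨p, hp, hpc, h2⟩ := exists_p ho
  have hfin : Fintype K := Fintype.ofFinite K
  have hW : Finite (CoxeterMatrix.E₈).Group := Nat.finite_of_card_ne_zero (by rw [cardW]; norm_num)
  exact cent_le p D_TabE7A1 hcm h2 inj_E8 hrw W_TabE7A1 hg

end

end Cfsg.Agent.H557.Co3.CentE8
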