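import Cfsg.Agent.H557.SubLink

/-!
# Generators of the centraliser of an element of the torus (helper557, S1920)

* `HH Rd t` : the subgroup generated by the torus and the elements of root groups commuting with `t`;
* `cent_le` : the centraliser of `t ∈ T` is `HH t`, if the fixer of `t` in the Weyl group has representatives in `HH t`;
* `HC hp t` : the subgroup generated by the torus and the root groups `X_x`, `x(t) = 1`, of `D.group K`;
* `centralizer_le` : `C(t) ≤ HC t`, if the fixer is generated by reflections `w s_j w⁻¹` with `(w (α j)) (t) = 1`;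
* `fix_gen` : the fixer of an involution with a checked table is generated by the reflections of the table;
* `HC_le` : `HC t ≤ closure (TT ∪ {x_r(a) | r(t) = 1})`.
-/

set_option autoImplicit false
set_option linter.unusedSectionVars false

namespace Cfsg.Agent.H557.Co3

open CoxeterSystem Cfsg.Agent.ChevalleyStructure.CoxeterGeom Cfsg.Agent.Tits.Roots Cfsg.Agent.Tits.Core
  Cfsg.Agent.Tits.RootComb Cfsg.Agent.Nodes.Comb Cfsg.Agent.Nodes.Reps Cfsg.Agent.Nodes.BNOf
  Cfsg.Agent.Nodes.BNOf.RGD Cfsg.Agent.Nodes.Unique Cfsg.Agent.Nodes.NormalForm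
  Cfsg.Agent.Nodes.Bruhat Cfsg.Agent.Nodes.OppDec Cfsg.Agent.H557.CardCent Cfsg.Agent.H557.WAct
  Cfsg.Agent.H557.CentChev
open Cfsg.Lie Cfsg.Agent.ChevalleyStructure Cfsg.Agent.ChevalleyStructure.Elts
  Cfsg.Agent.ChevalleyStructure.RootVec
  Cfsg.Agent.ChevalleyStructure.CoxeterGeomTypes Cfsg.Agent.Nodes.RGDChev
  Cfsg.Agent.KFacts.RgdField Cfsg.Agent.KFacts.RgdChevCoord Cfsg.Agent.OddHalf.NI.ModelChev
open Cfsg.Agent.ChevalleyStructure.WeylAbstract Cfsg.Agent.ChevalleyStructure.WeylStep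
  Cfsg.Agent.ChevalleyStructure.CoxeterWordCheck Cfsg.Agent.H557.SubTab Cfsg.Agent.H557.SumHom Cfsg.Agent.H557.SubLink

universe u

section

variable {I W Y : Type*} [Fintype I] [DecidableEq I] [Group W] [Group Y] {M : CoxeterMatrix I}
  {cs : CoxeterSystem M W} {A : I → I → ℤ} {h : IsCartan M A} {p : ℕ} {T : Subgroup Y} {n : I → Y}
  {X : (I → ℤ) → Subgroup Y}

/-- the torus and the elements of root groups commuting with `t` -/
def HH (cs : CoxeterSystem M W) (h : IsCartan M A) (T : Subgroup Y) (X : (I → ℤ) → Subgroup Y) (t : Y) : Subgroup Y :=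
  Subgroup.closure ((T : Set Y) ∪ {g | ∃ x, IsRoot cs h x ∧ g ∈ X x ∧ t * g = g * t})

theorem T_le_HH (t : Y) : T ≤ HH cs h T X t := fun _ ha => Subgroup.subset_closure (Or.inl ha)

theorem mem_HH {t g : Y} {x : I → ℤ} (hx : IsRoot cs h x) (hg : g ∈ X x) (hc : t * g = g * t) : g ∈ HH cs h T X t :=
  Subgroup.subset_closure (Or.inr ⟨x, hx, hg, hc⟩)

variable (Rd : RGD cs h p T n X)

include Rd

theorem sup_fut_le [Finite W] {t : Y} (ht : t ∈ T) (w : W) {s : Set (I → ℤ)}
    (hS : s ⊆ Fut cs h w) (hc : Closed cs h s) {g : Y} (hg : g ∈ RGD.Sup X s) (hgt : t * g = g * t) :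
    g ∈ HH cs h T X t := by
  classical
  induction hn : (Fut cs h w).ncard generalizing w s g with
  | zero =>
    have h1 := (Set.ncard_eq_zero (finite_fut w)).1 hn
    rw [h1, Set.subset_empty_iff] at hS
    subst hS
    have h2 : RGD.Sup X (∅ : Set (I → ℤ)) = ⊥ := by
      rw [eq_bot_iff]
      refine Sup_le fun z hz => ?_
      simp at hz
    rw [h2, Subgroup.mem_bot] at hg
    rw [hg]
    exact one_mem _
  | succ k ih =>
    have hne : (Fut cs h w).Nonempty := by
      rw [Set.nonempty_iff_ne_empty]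
      intro h1
      rw [h1, Set.ncard_empty] at hn
      omega
    obtain ⟨y, hy⟩ := hne
    obtain ⟨i, hi⟩ := exists_simple hy
    set x := rep cs h w (sr i) with hxdef
    have hcard : (Fut cs h (w * cs.simple i)).ncard = k := by
      rw [fut_mul hi, Set.ncard_sdiff_singleton_of_mem (mem_fut hi), hn]
      rfl
    have hsub : s \ {x} ⊆ Fut cs h (w * cs.simple i) := by
      rw [fut_mul hi]
      exact Set.sdiff_subset_sdiff_left hS
    have hcl := closed_diff hi hS hc
    by_cases hx : x ∈ s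
    · have hpos : s ⊆ Pos cs h := hS.trans (fut_subset_pos w)
      have hxr : IsRoot cs h x := (hpos hx).1
      have hbot : X x ⊓ RGD.Sup X (s \ {x}) = ⊥ := by
        rw [eq_bot_iff, ← tail_inf Rd (w := w) (i := i)]
        exact inf_le_inf_left _ (Sup_mono hsub)
      obtain ⟨a, ha, b, hb, rfl⟩ := (mem_peel Rd hpos hc hx).1 hg
      have h2 : t * a * t⁻¹ ∈ X x := by
        rw [← Rd.tor x hxr t ht]; exact conj_mem_cj.2 ha
      have h3 : t * b * t⁻¹ ∈ RGD.Sup X (s \ {x}) :=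
        (Subgroup.mem_normalizer_iff.1 (Rd.T_le_normalizer (S := s \ {x})
          (fun z hz => (hpos hz.1).1) ht) b).1 hb
      have h4 : a⁻¹ * (t * a * t⁻¹) = b * (t * b * t⁻¹)⁻¹ := by
        have h5 : (t * a * t⁻¹) * (t * b * t⁻¹) = a * b := by
          have : (t * a * t⁻¹) * (t * b * t⁻¹) = t * (a * b) * t⁻¹ := by group
          rw [this, hgt]; group
        rw [eq_mul_inv_iff_mul_eq, mul_assoc, h5]; group
      have h5 : a⁻¹ * (t * a * t⁻¹) ∈ X x ⊓ RGD.Sup X (s \ {x}) :=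
        Subgroup.mem_inf.2 ⟨mul_mem (inv_mem ha) h2, by rw [h4]; exact mul_mem hb (inv_mem h3)⟩
      rw [hbot, Subgroup.mem_bot] at h5
      have hac : t * a * t⁻¹ = a := (inv_mul_eq_one.1 h5).symm
      rw [h5] at h4
      have hbc : t * b * t⁻¹ = b := (mul_inv_eq_one.1 h4.symm).symm
      exact mul_mem (mem_HH hxr ha (mul_inv_eq_iff_eq_mul.1 hac))
        (ih (w * cs.simple i) hsub hcl hb (mul_inv_eq_iff_eq_mul.1 hbc) hcard)
    · have hs : s \ {x} = s := Set.sdiff_singleton_eq_self hx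
      rw [hs] at hsub
      exact ih (w * cs.simple i) hsub hc hg hgt hcard

/-- **the centraliser of an element of the torus** -/
theorem cent_le [Finite W] (hG : GG cs h T X = ⊤) (hT : ∀ a ∈ T, ∀ b ∈ T, a * b = b * a)
    {t : Y} (ht : t ∈ T) (hfix : ∀ w ∈ fixS cs Rd.nsys hT ⟨t, ht⟩, ∃ k ∈ HH cs h T X t, Rp cs Rd.nsys w k) {g : Y}
    (hg : t * g = g * t) : g ∈ HH cs h T X t := by
  have hgG : g ∈ GG cs h T X := by rw [hG]; exact Subgroup.mem_top g
  obtain ⟨w, hw⟩ := (mem_GG Rd).1 hgG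
  obtain ⟨u, hu, k, hk, v, hv, rfl⟩ := exists_normal_form Rd hw
  have hmem : ∀ y : Y, y ∈ Subgroup.centralizer ({t} : Set Y) ↔ t * y = y * t := by
    intro y
    rw [Subgroup.mem_centralizer_iff]
    exact ⟨fun h => h t rfl, fun h z hz => by rw [Set.mem_singleton_iff.1 hz]; exact h⟩
  obtain ⟨h1, h2, h3⟩ := centralizer_form Rd (S := {t}) (by
    rw [Set.singleton_subset_iff]; exact ht) hu hk hv ((hmem _).2 hg)
  rw [hmem] at h1 h2 h3
  have h4 : w ∈ fixS cs Rd.nsys hT ⟨t, ht⟩ := by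
    rw [mem_fixS, act_rp cs Rd.nsys hT hk ht]
    exact mul_inv_eq_iff_eq_mul.2 h2.symm
  obtain ⟨k', hk', hk''⟩ := hfix w h4
  have h5 : k ∈ HH cs h T X t := by
    have h6 : k'⁻¹ * k ∈ T := hk''.unique hk
    have h7 : k = k' * (k'⁻¹ * k) := by group
    rw [h7]
    exact mul_mem hk' (T_le_HH t h6)
  refine mul_mem (mul_mem (sup_fut_le Rd ht 1 ?_ closed_pos hu h1) h5) (sup_fut_le Rd ht 1 ?_ (closed_NW w) hv h3)
  · rw [fut_one]
  · rw [fut_one]
    exact NW_subset_pos w

/-- representatives of reflections -/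
theorem exists_rp_refl (w : W) (i : I) (hne : ∃ u ∈ X (-sr i), u ≠ 1) :
    ∃ k ∈ X (rep cs h w (sr i)) ⊔ X (-rep cs h w (sr i)), Rp cs Rd.nsys (w * cs.simple i * w⁻¹) k := by
  obtain ⟨u, hu, hu1⟩ := hne
  obtain ⟨a, ha, t, ht, b, hb, e⟩ := Rd.rk1 i u hu hu1
  obtain ⟨g, hg⟩ := exists_rp cs Rd.nsys w
  have h1 : t * n i ∈ X (sr i) ⊔ X (-sr i) := by
    have h2 : t * n i = a⁻¹ * u * b⁻¹ := by rw [e]; group
    rw [h2]
    exact mul_mem (mul_mem (inv_mem (Subgroup.mem_sup_left ha)) (Subgroup.mem_sup_right hu))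
      (inv_mem (Subgroup.mem_sup_left hb))
  refine ⟨g * (t * n i) * g⁻¹, ?_, ?_⟩
  · have h2 : cj g (X (sr i)) = X (rep cs h w (sr i)) := Rd.conj_rp hg (isRoot_sr cs h i)
    have h3 : cj g (X (-sr i)) = X (-rep cs h w (sr i)) := by
      rw [← map_neg]
      exact Rd.conj_rp hg (isRoot_sr cs h i).neg
    have h4 : cj g (X (sr i) ⊔ X (-sr i)) = X (rep cs h w (sr i)) ⊔ X (-rep cs h w (sr i)) := by
      rw [← h2, ← h3]
      exact Subgroup.map_sup _ _ _
    rw [← h4]
    exact conj_mem_cj.2 h1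
  · have h2 := (rp_of_mem (cs := cs) (hN := Rd.nsys) ht).mul (rp_simple cs Rd.nsys i)
    rw [one_mul] at h2
    exact (hg.mul h2).mul hg.inv

end

/-! ### Chevalley groups -/

section

variable {D : ChevalleyDatum} {l : ℕ} {M : CoxeterMatrix (Fin l)} (hp : IsType D l M) {K : Type u} [Field K]

/-- the torus and the root groups `X_x` with `x(t) = 1` -/
def HC (t : ↥(D.group K)) : Subgroup ↥(D.group K) :=
  Subgroup.closure ((TT D K : Set ↥(D.group K)) ∪
    {g | ∃ r, r < D.nroots ∧ ch hp (vec D l r) t = 1 ∧ g ∈ XX D l K (vec D l r)})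

theorem TT_le_HC (t : ↥(D.group K)) : TT D K ≤ HC hp t := fun _ ha => Subgroup.subset_closure (Or.inl ha)

variable {W : Type*} [Group W] (cs : CoxeterSystem M W)

theorem XX_le_HC {t : ↥(D.group K)} {x : Fin l → ℤ} (hx : IsRoot cs hp.isCartan x) (h1 : ch hp x t = 1) :
    XX D l K x ≤ HC hp t := by
  obtain ⟨r, hr, rfl⟩ := (isRoot_iff hp cs x).1 hx
  exact fun g hg => Subgroup.subset_closure (Or.inr ⟨r, hr, h1, hg⟩)

variable [Finite K] (p : ℕ) [Fact p.Prime] [CharP K p]

include p in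
theorem HH_le_HC {t : ↥(D.group K)} (ht : t ∈ TT D K) :
    HH cs hp.isCartan (TT D K) (XX D l K) t ≤ HC hp t := by
  refine (Subgroup.closure_le _).2 ?_
  rintro g (hg | ⟨x, hx, hg, hc⟩)
  · exact TT_le_HC hp t hg
  · have C := (coords (K := K) hp cs p).coord x hx
    obtain ⟨a, rfl⟩ := (C.mem g).1 hg
    have h1 := C.act t ht a
    rw [hc, mul_inv_cancel_right] at h1
    have h2 := C.inj h1
    have h3 : (ch hp x t - 1) * a = 0 := by rw [sub_mul, one_mul, ← h2, sub_self]
    rcases mul_eq_zero.1 h3 with h4 | h4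
    · exact XX_le_HC hp cs hx (sub_eq_zero.1 h4) hg
    · rw [h4, C.zero]
      exact one_mem _

include p in
theorem HC_le_HH {t : ↥(D.group K)} (ht : t ∈ TT D K) :
    HC hp t ≤ HH cs hp.isCartan (TT D K) (XX D l K) t := by
  refine (Subgroup.closure_le _).2 ?_
  rintro g (hg | ⟨r, hr, h1, hg⟩)
  · exact T_le_HH t hg
  · have hx := isRoot_vec hp cs hr
    have C := (coords (K := K) hp cs p).coord _ hx
    refine mem_HH hx hg ?_
    obtain ⟨a, rfl⟩ := (C.mem g).1 hg
    have h2 := C.act t ht a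
    rw [h1, one_mul] at h2
    exact mul_inv_eq_iff_eq_mul.1 h2

/-- the reflections `w s_j w⁻¹` fixing `t` with `(w α_j)(t) = 1` -/
def Refl (t : TT D K) : Set W :=
  {v | v ∈ fixS cs (rgd (K := K) hp cs p).nsys (comm_mem_TT hp) t ∧ ∃ w j, v = w * cs.simple j * w⁻¹ ∧
    ch hp (rep cs hp.isCartan w (sr j)) (t : ↥(D.group K)) = 1}

/-- **the centraliser of an element of the torus, if its fixer is generated by reflections** -/
theorem centralizer_le [Finite W] (t : TT D K)
    (hfix : fixS cs (rgd (K := K) hp cs p).nsys (comm_mem_TT hp) t ≤ Subgroup.closure (Refl hp cs p t))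
    {g : ↥(D.group K)} (hg : (t : ↥(D.group K)) * g = g * t) : g ∈ HC hp (t : ↥(D.group K)) := by
  have Rd := rgd (K := K) hp cs p
  have hHC := HC_le_HH hp cs p t.2
  have hne : ∀ i : Fin l, ∃ u ∈ XX D l K (-sr i), u ≠ 1 := by
    intro i
    have hx : IsRoot cs hp.isCartan (-sr i) := (isRoot_sr cs hp.isCartan i).neg
    have C := (coords (K := K) hp cs p).coord _ hx
    refine ⟨xc hp (-sr i) 1, (C.mem _).2 ⟨1, rfl⟩, fun h => ?_⟩
    rw [← C.zero] at h
    exact one_ne_zero (C.inj h)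
  have key : ∀ w ∈ fixS cs Rd.nsys (comm_mem_TT hp) t, ∃ k ∈ HC hp (t : ↥(D.group K)), Rp cs Rd.nsys w k := by
    intro w hw
    have h1 := hfix hw
    clear hw
    induction h1 using Subgroup.closure_induction with
    | mem v hv =>
      obtain ⟨hv1, w, j, rfl, hv2⟩ := hv
      obtain ⟨k, hk, hk'⟩ := exists_rp_refl Rd w j (hne j)
      refine ⟨k, ?_, hk'⟩
      have hr : IsRoot cs hp.isCartan (rep cs hp.isCartan w (sr j)) := ⟨w, j, rfl⟩
      have h3 : ch hp (-rep cs hp.isCartan w (sr j)) (t : ↥(D.group K)) = 1 := by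
        have h4 := ch_fix hp p cs hv1 hr
        have h5 : rep cs hp.isCartan (w * cs.simple j * w⁻¹) (rep cs hp.isCartan w (sr j)) =
            -rep cs hp.isCartan w (sr j) := by
          rw [← rep_mul_apply, inv_mul_cancel_right, rep_mul_apply, rep_simple_sr, map_neg]
        rw [h5] at h4
        rw [h4, hv2]
      exact (sup_le (XX_le_HC hp cs hr hv2) (XX_le_HC hp cs hr.neg h3)) hk
    | one => exact ⟨1, one_mem _, rp_one⟩
    | mul v w hv hw h1 h2 =>
      obtain ⟨a, ha, ha'⟩ := h1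
      obtain ⟨b, hb, hb'⟩ := h2
      exact ⟨a * b, mul_mem ha hb, ha'.mul hb'⟩
    | inv v hv h1 =>
      obtain ⟨a, ha, ha'⟩ := h1
      exact ⟨a⁻¹, inv_mem ha, ha'.inv⟩
  refine HH_le_HC hp cs p t.2 (cent_le Rd (GG_eq_top hp cs) (comm_mem_TT hp) t.2 (fun w hw => ?_) hg)
  obtain ⟨k, hk, hk'⟩ := key w hw
  exact ⟨k, hHC hk, hk'⟩

end

/-! ### the fixer of an involution with a checked table -/

section

variable {D : ChevalleyDatum} {l : ℕ} {M : CoxeterMatrix (Fin l)} {hp : IsType D l M}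
  {W : Type*} [Group W] {cs : CoxeterSystem M W} {T : Tab l} {i₀ : Fin l} (L : Lnk hp cs T i₀)

include L in
/-- the fixer is generated by the reflections of the table -/
theorem fix_gen {K : Type u} [Field K] [Finite K] (p : ℕ) [Fact p.Prime] [CharP K p] [Finite W] (hok : T.Ok)
    (hβ : ∃ r < T.N, vf T r i₀ ≠ 0) (t : TT D K)
    (hch : ∀ x, IsRoot cs hp.isCartan x → (ch hp x (t : ↥(D.group K)) = 1 ↔ Even (x i₀)))
    (hw : ∀ i : Fin l, cs.wordProd (T.w i) ∈ fixS cs (rgd (K := K) hp cs p).nsys (comm_mem_TT hp) t)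
    (Ls : List (List Node)) (hLs : chainOK l [] T.A l Ls = true)
    (hcard : Nat.card ↥(fixS cs (rgd (K := K) hp cs p).nsys (comm_mem_TT hp) t) = pe 1 (poly Ls)) :
    fixS cs (rgd (K := K) hp cs p).nsys (comm_mem_TT hp) t ≤
      Subgroup.closure (Set.range fun i : Fin l => cs.wordProd (T.w i)) := by
  classical
  set C := fixS cs (rgd (K := K) hp cs p).nsys (comm_mem_TT hp) t with hCdef
  have hC : ∀ w ∈ C, ∀ x, IsRoot cs hp.isCartan x → Even (x i₀) → Even (rep cs hp.isCartan w x i₀) := by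
    intro w hw x hx h0
    rw [← hch _ (hx.act w), ch_fix hp p cs hw hx, hch x hx]
    exact h0
  obtain ⟨ρ, hρ⟩ := exists_rho L C hC
  set R := Tab.rdata hok with hR
  have hinj : Function.Injective ρ := by
    rw [injective_iff_map_eq_one]
    intro w hw1
    apply Subtype.ext
    refine eq_one_of_fix' L hβ fun r hr => ?_
    have h1 := hρ w ⟨r, hr⟩
    rw [hw1, Equiv.Perm.one_apply] at h1
    exact h1.symm
  have hgen : ∀ i : Fin l, ρ ⟨cs.wordProd (T.w i), hw i⟩ = R.refl i := by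
    intro i
    ext r
    have h1 := hρ ⟨cs.wordProd (T.w i), hw i⟩ r
    rw [L.act i r r.2] at h1
    exact L.inj _ (Fin.is_lt _) _ (hok.fl i i.2 r r.2) h1
  have hle : R.W Set.univ ≤ ρ.range := by
    unfold RData.W
    rw [Subgroup.closure_le]
    rintro _ ⟨i, -, rfl⟩
    exact ⟨_, hgen i⟩
  have hfin : Finite (Equiv.Perm (Fin T.N)) := inferInstance
  have hc1 : Nat.card ρ.range = Nat.card C :=
    (Nat.card_congr (MonoidHom.ofInjective hinj).toEquiv).symm
  have hc2 : Nat.card (R.W Set.univ) = Nat.card C := by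
    rw [hcard, ← sum_W R T.A (fun _ _ => rfl) (fun i => hok.al i i.2) Ls hLs 1]
    simp only [one_pow]
    rw [finsum_mem_eq_finite_toFinset_sum _ (Set.toFinite _), Finset.sum_const, smul_eq_mul, mul_one,
      ← Set.ncard_eq_toFinset_card]
    exact Nat.card_coe_set_eq (R.W Set.univ : Set (Equiv.Perm (Fin T.N)))
  have heq : R.W Set.univ = ρ.range := by
    refine Subgroup.eq_of_le_of_card_ge hle ?_
    rw [hc1, hc2]
  intro w hwC
  have h1 : ρ ⟨w, hwC⟩ ∈ R.W Set.univ := by rw [heq]; exact ⟨_, rfl⟩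
  have h2 : R.W Set.univ ≤ ((Subgroup.closure (Set.range fun i : Fin l => cs.wordProd (T.w i))).subgroupOf C).map ρ := by
    unfold RData.W
    rw [Subgroup.closure_le]
    rintro _ ⟨i, -, rfl⟩
    exact ⟨⟨cs.wordProd (T.w i), hw i⟩, Subgroup.subset_closure ⟨i, rfl⟩, hgen i⟩
  obtain ⟨v, hv, e⟩ := h2 h1
  have h3 := hinj e
  rw [h3] at hv
  exact hv

/-- the words of the table are reflections in roots with even coordinate `i₀` -/
def okW (T : Tab l) (rows : List (List ℤ)) (i₀ : ℕ) : Bool := (List.range l).all fun i =>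
  match (T.w i).drop ((T.w i).length / 2) with
  | [] => false
  | j :: ω => (T.w i).take ((T.w i).length / 2) == ω.reverse &&
    decide ((actList rows (((T.w i).take ((T.w i).length / 2)).map Fin.val) (unit l j)).getD i₀ 0 % 2 = 0)

theorem okW_spec {rw : List (List ℤ)} (hrw : rows (cartanOf D l) = rw) (h : okW T rw i₀ = true) (i : Fin l) :
    ∃ (ω : List (Fin l)) (j : Fin l), T.w i = ω ++ j :: ω.reverse ∧
      Even (rep cs hp.isCartan (cs.wordProd ω) (sr j) i₀) := by
  unfold okW at h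
  simp only [List.all_eq_true, List.mem_range] at h
  have h1 := h i i.2
  split at h1
  · exact absurd h1 (by simp)
  · rename_i j ω e
    rw [Bool.and_eq_true, beq_iff_eq, decide_eq_true_eq] at h1
    obtain ⟨h2, h3⟩ := h1
    refine ⟨ω.reverse, j, ?_, ?_⟩
    · rw [List.reverse_reverse, ← h2, ← e, List.take_append_drop]
    · rw [← hrw, ← ofFn_single, actList_ofFn cs hp.isCartan, getD_ofFn, h2] at h3
      exact Int.even_iff.2 h3

end

end Cfsg.Agent.H557.Co3
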